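import Cfsg.Prelude.Def_CaseTheorems
import Cfsg.Agent.H19.Cores
import Cfsg.Agent.H32.Basic
import Mathlib

/-!
Recognition of `S₄` and `S₄ × C₂`, and the odd core of a group with dihedral top.
-/

namespace Cfsg.Agent.H91.Sims

/-- Two distinct commuting involutions generating a group of order 4 give a four-group. -/
theorem nonempty_mulEquiv_four {K : Type*} [Group K] (hc : Nat.card K = 4) (he : ∀ g : K, g ^ 2 = 1)
    : Nonempty (K ≃* Multiplicative (ZMod 2) × Multiplicative (ZMod 2)) := by
  haveI : IsKleinFour K := ⟨hc, by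
    apply Nat.le_antisymm
    · exact Nat.le_of_dvd two_pos (Monoid.exponent_dvd_of_forall_pow_eq_one he)
    · have h1 : Monoid.exponent K ≠ 1 := fun h => by
        haveI := Monoid.exp_eq_one_iff.1 h
        simp [Nat.card_unique] at hc
      have h0 : Monoid.exponent K ≠ 0 := fun h => by
        have := Monoid.exponent_dvd_of_forall_pow_eq_one he
        rw [h] at this; norm_num at this
      omega⟩
  haveI : IsKleinFour (Multiplicative (ZMod 2) × Multiplicative (ZMod 2)) := by
    refine ⟨by simp [Nat.card_eq_fintype_card], Nat.le_antisymm ?_ ?_⟩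
    · exact Nat.le_of_dvd two_pos (Monoid.exponent_dvd_of_forall_pow_eq_one (by decide))
    · have h1 : Monoid.exponent (Multiplicative (ZMod 2) × Multiplicative (ZMod 2)) ≠ 1 := fun h => by
        haveI := Monoid.exp_eq_one_iff.1 h
        exact absurd (Subsingleton.elim ((Multiplicative.ofAdd 1, 1) :
          Multiplicative (ZMod 2) × Multiplicative (ZMod 2)) 1) (by decide)
      have h0 : Monoid.exponent (Multiplicative (ZMod 2) × Multiplicative (ZMod 2)) ≠ 0 :=
        Monoid.exponent_ne_zero_of_finite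
      omega
  exact IsKleinFour.nonempty_mulEquiv

/-- A group of order 24 with a self-centralising normal subgroup of order 4 is `S₄`. -/
theorem nonempty_mulEquiv_perm_four {K : Type*} [Group K] [Finite K] (hK : Nat.card K = 24)
    (V : Subgroup K) [V.Normal] (hV : Nat.card V = 4)
    (hC : Subgroup.centralizer (V : Set K) ≤ V) : Nonempty (K ≃* Equiv.Perm (Fin 4)) := by
  classical
  haveI : Fact (Nat.Prime 3) := ⟨Nat.prime_three⟩
  haveI := Fintype.ofFinite K
  obtain ⟨T⟩ := (inferInstance : Nonempty (Sylow 3 K))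
  have hT : Nat.card (T : Subgroup K) = 3 := by
    rw [T.card_eq_multiplicity, hK]
    have h : (24 : ℕ).factorization 3 = 1 := by
      rw [Nat.factorization_def _ Nat.prime_three]
      rw [show (24 : ℕ) = 3 ^ 1 * 8 by norm_num,
        padicValNat.mul (by norm_num) (by norm_num), padicValNat.prime_pow,
        padicValNat.eq_zero_of_not_dvd (by norm_num)]
    rw [h, pow_one]
  have hTV : (T : Subgroup K) ⊓ V = ⊥ := Subgroup.inf_eq_bot_of_coprime (by rw [hT, hV]; norm_num)
  set N := Subgroup.normalizer ((T : Subgroup K) : Set K) with hN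
  -- an element of `V` centralised by `T` is trivial
  have hfpf : ∀ v ∈ V, (∀ a ∈ (T : Subgroup K), a * v = v * a) → v = 1 := by
    intro v hv hvT
    by_contra hv1
    obtain ⟨a, ha, ha1⟩ : ∃ a ∈ (T : Subgroup K), a ≠ 1 :=
      (Subgroup.bot_or_exists_ne_one _).resolve_left fun h => by simp [h] at hT
    have ha3 : a ^ 3 = 1 := orderOf_dvd_iff_pow_eq_one.1 (hT ▸ Subgroup.orderOf_dvd_natCard _ ha)
    have hav := hvT a ha
    refine ha1 (Subgroup.mem_bot.1 (hTV ▸ ⟨ha, hC (Subgroup.mem_centralizer_iff.2 fun w hw => ?_)⟩))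
    by_contra hne
    let f : K → K := fun u => a * u * a⁻¹
    have hfV : ∀ u ∈ V, f u ∈ V := fun u hu => ‹V.Normal›.conj_mem u hu a
    have hfinj : Function.Injective f := fun u u' h => by simpa [f] using h
    have hfw : f w ≠ w := fun h => hne (mul_inv_eq_iff_eq_mul.1 h).symm
    have hf3 : f (f (f w)) = w := by
      show a * (a * (a * w * a⁻¹) * a⁻¹) * a⁻¹ = w
      rw [show a * (a * (a * w * a⁻¹) * a⁻¹) * a⁻¹ = a ^ 3 * w * (a ^ 3)⁻¹ by
        simp only [pow_succ, pow_zero, one_mul, mul_inv_rev, mul_assoc], ha3]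
      group
    have hfv : f v = v := by
      show a * v * a⁻¹ = v
      rw [hav, mul_inv_cancel_right]
    have hf1 : f 1 = 1 := by simp [f]
    have hw1 : w ≠ 1 := fun h => hfw (h ▸ hf1)
    have hwv : w ≠ v := fun h => hfw (h ▸ hfv)
    have hsub : ({1, v, w, f w, f (f w)} : Finset K) ⊆ Finset.univ.filter (· ∈ V) := by
      intro u hu
      simp only [Finset.mem_insert, Finset.mem_singleton] at hu
      rcases hu with rfl | rfl | rfl | rfl | rfl <;> simp only [Finset.mem_filter,
        Finset.mem_univ, true_and]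
      exacts [V.one_mem, hv, hw, hfV _ hw, hfV _ (hfV _ hw)]
    have h5 : ({1, v, w, f w, f (f w)} : Finset K).card = 5 := by
      have e1 : f w ≠ 1 := fun h => hw1 (hfinj (h.trans hf1.symm))
      have e2 : f (f w) ≠ 1 := fun h => e1 (hfinj (h.trans hf1.symm))
      have e3 : f w ≠ v := fun h => hwv (hfinj (h.trans hfv.symm))
      have e4 : f (f w) ≠ v := fun h => e3 (hfinj (h.trans hfv.symm))
      have e5 : f (f w) ≠ w := fun h => hfw (by conv_rhs => rw [← hf3, h])
      have e6 : f (f w) ≠ f w := fun h => hfw (hfinj h)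
      rw [Finset.card_insert_of_notMem (by simp [Ne.symm hv1, hw1.symm, e1.symm, e2.symm]),
        Finset.card_insert_of_notMem (by simp [hwv.symm, e3.symm, e4.symm]),
        Finset.card_insert_of_notMem (by simp [Ne.symm hfw, e5.symm]),
        Finset.card_insert_of_notMem (by simp [e6.symm]), Finset.card_singleton]
    have hle := Finset.card_le_card hsub
    rw [h5, ← Fintype.card_subtype, ← Nat.card_eq_fintype_card] at hle
    exact absurd hV (by
      intro h4
      have : Nat.card {u : K // u ∈ V} = 4 := h4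
      omega)
  -- the normaliser of `T` has index 4
  have hn : N.index = 4 := by
    have h1 : Nat.card (Sylow 3 K) = N.index := T.card_eq_index_normalizer
    have h2 : Nat.card (Sylow 3 K) ≡ 1 [MOD 3] := card_sylow_modEq_one 3 K
    have h3 : N.index ∣ 8 := by
      have h4 := Subgroup.index_dvd_of_le (Subgroup.le_normalizer (H := (T : Subgroup K)))
      have h5 := (T : Subgroup K).card_mul_index
      rw [hT, hK] at h5
      rwa [show (T : Subgroup K).index = 8 by omega] at h4
    have h6 : N.index ≠ 1 := by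
      intro h
      have hnor : (T : Subgroup K).Normal :=
        Subgroup.normalizer_eq_top_iff.1 (Subgroup.index_eq_one.1 h)
      obtain ⟨v, hv, hv1⟩ : ∃ v ∈ V, v ≠ 1 :=
        (Subgroup.bot_or_exists_ne_one _).resolve_left fun h => by simp [h] at hV
      exact hv1 (hfpf v hv fun a ha => (Subgroup.commute_of_normal_of_disjoint _ _ hnor
        ‹V.Normal› (disjoint_iff.2 hTV) a v ha hv).eq)
    have h7 : N.index ≤ 8 := Nat.le_of_dvd (by norm_num) h3
    rw [h1, Nat.ModEq] at h2
    interval_cases h : N.index <;> omega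
  have hcore : N.normalCore = ⊥ := by
    have hd : N.normalCore ⊓ V = ⊥ := by
      refine (Subgroup.eq_bot_iff_forall _).2 fun v hv => hfpf v hv.2 fun a ha => ?_
      have hmem : a * v * a⁻¹ * v⁻¹ ∈ (T : Subgroup K) ⊓ V :=
        ⟨by
          rw [show a * v * a⁻¹ * v⁻¹ = a * (v * a⁻¹ * v⁻¹) by group]
          exact (T : Subgroup K).mul_mem ha ((Subgroup.mem_normalizer_iff.1
            (N.normalCore_le hv.1) _).1 ((T : Subgroup K).inv_mem ha)),
        V.mul_mem (‹V.Normal›.conj_mem v hv.2 a) (V.inv_mem hv.2)⟩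
      rw [hTV, Subgroup.mem_bot, mul_inv_eq_one, mul_inv_eq_iff_eq_mul] at hmem
      exact hmem
    refine (Subgroup.eq_bot_iff_forall _).2 fun c hc => Subgroup.mem_bot.1 (hd ▸ ⟨hc, hC ?_⟩)
    exact Subgroup.mem_centralizer_iff.2 fun v hv => ((Subgroup.commute_of_normal_of_disjoint _ _
      inferInstance ‹V.Normal› (disjoint_iff.2 hd) c v hc hv).eq).symm
  haveI := Fintype.ofFinite (K ⧸ N)
  have hq : Fintype.card (K ⧸ N) = 4 := by
    rw [← Nat.card_eq_fintype_card, ← Subgroup.index_eq_card, hn]
  let e : (K ⧸ N) ≃ Fin 4 := Fintype.equivFinOfCardEq hq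
  let φ : K →* Equiv.Perm (Fin 4) :=
    (Equiv.permCongrHom e).toMonoidHom.comp (MulAction.toPermHom K (K ⧸ N))
  have hφ : Function.Injective φ := by
    rw [← MonoidHom.ker_eq_bot_iff]
    refine (Subgroup.eq_bot_iff_forall _).2 fun g hg => ?_
    rw [MonoidHom.mem_ker] at hg
    have h2 : g ∈ (MulAction.toPermHom K (K ⧸ N)).ker :=
      MonoidHom.mem_ker.2 ((Equiv.permCongrHom e).injective (hg.trans (map_one _).symm))
    rw [← Subgroup.normalCore_eq_ker, hcore] at h2
    exact Subgroup.mem_bot.1 h2
  refine ⟨MulEquiv.ofBijective φ ((Nat.bijective_iff_injective_and_card _).2 ⟨hφ, ?_⟩)⟩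
  rw [hK, Nat.card_eq_fintype_card, Fintype.card_perm, Fintype.card_fin]
  norm_num [Nat.factorial]

/-- A group of order 48 with a central involution, split over it modulo a Sylow 2-subgroup and
with quotient `S₄`, is `S₄ × C₂`. -/
theorem nonempty_mulEquiv_prod {K : Type*} [Group K] [Finite K] (Z U : Subgroup K) [Z.Normal]
    (hZ : Nat.card Z = 2) (hc : Subgroup.IsComplement' Z U)
    (hq : Nonempty (K ⧸ Z ≃* Equiv.Perm (Fin 4))) :
    Nonempty (K ≃* Equiv.Perm (Fin 4) × Multiplicative (ZMod 2)) := by
  classical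
  have hzc : ∀ z ∈ Z, ∀ g : K, g * z = z * g := by
    intro z hz g
    by_cases hz1 : z = 1
    · simp [hz1]
    have h2 : g * z * g⁻¹ ∈ Z := ‹Z.Normal›.conj_mem z hz g
    haveI := Fintype.ofFinite Z
    have hsub : ∀ a ∈ Z, a = 1 ∨ a = z := by
      intro a ha
      by_contra hne
      push Not at hne
      have h3 : ({1, z, a} : Finset K) ⊆ Finset.univ.map ⟨fun u : Z => (u : K), Subtype.coe_injective⟩ := by
        haveI := Fintype.ofFinite K
        intro u hu
        simp only [Finset.mem_insert, Finset.mem_singleton] at hu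
        rcases hu with rfl | rfl | rfl <;> simp [hz, ha]
      have := Finset.card_le_card h3
      rw [Finset.card_map, Finset.card_univ, ← Nat.card_eq_fintype_card, hZ,
        Finset.card_insert_of_notMem (by simp [Ne.symm hz1, hne.1.symm]),
        Finset.card_insert_of_notMem (by simp [hne.2.symm]), Finset.card_singleton] at this
      omega
    rcases hsub _ h2 with h | h
    · exact absurd (conj_eq_one_iff.1 h) hz1
    · exact mul_inv_eq_iff_eq_mul.1 h
  obtain ⟨e⟩ := hq
  haveI : IsCyclic Z := isCyclic_of_prime_card (p := 2) hZ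
  let eU : U ≃* Equiv.Perm (Fin 4) := hc.symm.QuotientMulEquiv.symm.trans e
  let eZ : Z ≃* Multiplicative (ZMod 2) := mulEquivOfCyclicCardEq (by simp [hZ])
  let m : U × Z →* K :=
    MonoidHom.noncommCoprod U.subtype Z.subtype fun u z => (hzc z z.2 u)
  have hm : Function.Bijective m := by
    have := hc.symm
    exact this
  exact ⟨(MulEquiv.ofBijective m hm).symm.trans (MulEquiv.prodCongr eU eZ)⟩

/-- In a group with a homomorphism onto a dihedral group of twice odd order with kernel `Q`, the
subgroup of rotations. -/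
theorem rotations_spec {n : ℕ} (hn : Odd n) {K : Type*} [Group K] [Finite K]
    (f : K →* DihedralGroup n) (N : Subgroup K) [N.Normal] (hN : Odd (Nat.card (N.map f))) :
    N.map f ≤ Subgroup.zpowers (DihedralGroup.r 1) := by
  haveI : NeZero n := ⟨hn.pos.ne'⟩
  rintro (i | i) hd
  · exact ⟨(i.val : ℤ), by simp [ZMod.natCast_zmod_val]⟩
  · exfalso
    have h1 := Subgroup.orderOf_dvd_natCard _ hd
    rw [DihedralGroup.orderOf_sr] at h1
    exact Nat.not_even_iff_odd.2 hN (even_iff_two_dvd.2 h1)

end Cfsg.Agent.H91.Sims
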